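import Mathlib
import Groth.Agent.Lib.Helper7.DimTrdeg
import Groth.Agent.Lib.lead.NonDomainDim

/-!
# Chains of primes in the generic fibre (helper24)

For a finite type extension of domains `R ⊆ S` of transcendence degree `n` there is a chain of
`n + 1` primes of `S` all contracting to `⊥` in `R`.
-/

set_option autoImplicit false
universe u

namespace Groth.Agent.Lib.Helper24.ClosedDim

open TensorProduct

/-- Algebraic independence is preserved by flat base change. -/
theorem algebraicIndependent_one_tmul (R K S : Type u) [CommRing R] [CommRing K] [CommRing S]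
    [Algebra R K] [Algebra R S] [Module.Flat R K] {ι : Type*} (x : ι → S)
    (hx : AlgebraicIndependent R x) :
    AlgebraicIndependent K (fun i => (1 : K) ⊗ₜ[R] x i) := by
  rw [algebraicIndependent_iff_injective_aeval] at hx ⊢
  have key : ∀ t : K ⊗[R] MvPolynomial ι R,
      MvPolynomial.aeval (fun i => (1 : K) ⊗ₜ[R] x i) (MvPolynomial.algebraTensorAlgEquiv R K t) =
        LinearMap.lTensor K (MvPolynomial.aeval x : MvPolynomial ι R →ₐ[R] S).toLinearMap t := by
    intro t
    induction t using TensorProduct.induction_on with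
    | zero => simp
    | tmul a p =>
      rw [MvPolynomial.algebraTensorAlgEquiv_tmul, map_smul, MvPolynomial.aeval_map_algebraMap,
        LinearMap.lTensor_tmul]
      have h1 : MvPolynomial.aeval (fun i => (1 : K) ⊗ₜ[R] x i) p =
          (Algebra.TensorProduct.includeRight : S →ₐ[R] K ⊗[R] S) (MvPolynomial.aeval x p) :=
        (MvPolynomial.comp_aeval_apply x
          (Algebra.TensorProduct.includeRight : S →ₐ[R] K ⊗[R] S) p).symm
      rw [h1, Algebra.TensorProduct.includeRight_apply, TensorProduct.smul_tmul', smul_eq_mul,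
        mul_one]
      rfl
    | add t₁ t₂ h₁ h₂ => rw [map_add, map_add, map_add, h₁, h₂]
  have hinj : Function.Injective
      (LinearMap.lTensor K (MvPolynomial.aeval x : MvPolynomial ι R →ₐ[R] S).toLinearMap) :=
    Module.Flat.lTensor_preserves_injective_linearMap _ hx
  intro p q hpq
  have hp := key ((MvPolynomial.algebraTensorAlgEquiv R K).symm p)
  have hq := key ((MvPolynomial.algebraTensorAlgEquiv R K).symm q)
  rw [AlgEquiv.apply_symm_apply] at hp hq
  have := hinj (hp.symm.trans (hpq.trans hq))
  exact (MvPolynomial.algebraTensorAlgEquiv R K).symm.injective this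

attribute [local instance] Algebra.TensorProduct.rightAlgebra in
/-- Domain version: a chain of `n + 1` primes of `S` lying over `⊥`. -/
theorem exists_chain_domain (R S : Type u) [CommRing R] [IsDomain R] [CommRing S] [IsDomain S]
    [Algebra R S] [FaithfulSMul R S] [Algebra.FiniteType R S] (n : ℕ)
    (h : Algebra.trdeg R S = n) :
    ∃ Q : Fin (n + 1) → PrimeSpectrum S, StrictMono Q ∧
      ∀ i, (Q i).asIdeal.comap (algebraMap R S) = ⊥ := by
  classical
  -- a transcendence basis indexed by `Fin n`
  obtain ⟨ι, x, hx⟩ := exists_isTranscendenceBasis' R S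
  have hcard : Cardinal.mk ι = n := by rw [hx.cardinalMk_eq_trdeg, h]
  obtain ⟨e⟩ := Cardinal.mk_eq_nat_iff.mp hcard
  have hy : AlgebraicIndependent R (x ∘ e.symm) := hx.1.comp e.symm e.symm.injective
  -- base change to the fraction field
  let K := FractionRing R
  have hy' := algebraicIndependent_one_tmul R K S (x ∘ e.symm) hy
  have hdim : ((n : ℕ∞) : WithBot ℕ∞) ≤ ringKrullDim (K ⊗[R] S) :=
    Groth.Agent.Lib.Helper7.DimTrdeg.le_ringKrullDim_of_algebraicIndependent _ hy'
  have hdim' : (n : WithBot ℕ∞) ≤ Order.krullDim (PrimeSpectrum (K ⊗[R] S)) := by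
    exact_mod_cast hdim
  obtain ⟨l, hl⟩ := Order.le_krullDim_iff.mp hdim'
  subst hl
  haveI : IsLocalization (Algebra.algebraMapSubmonoid S (nonZeroDivisors R)) (K ⊗[R] S) :=
    IsLocalization.tensorRight K (nonZeroDivisors R)
  refine ⟨fun i => PrimeSpectrum.comap (algebraMap S (K ⊗[R] S)) (l i), ?_, ?_⟩
  · refine Monotone.strictMono_of_injective ?_ ?_
    · intro i j hij
      have hle : l i ≤ l j := l.strictMono.monotone hij
      show (PrimeSpectrum.comap _ (l i)).asIdeal ≤ (PrimeSpectrum.comap _ (l j)).asIdeal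
      exact Ideal.comap_mono hle
    · intro i j hij
      exact l.strictMono.injective (PrimeSpectrum.localization_comap_injective (K ⊗[R] S)
        (Algebra.algebraMapSubmonoid S (nonZeroDivisors R)) hij)
  · intro i
    rw [eq_bot_iff]
    intro r hr
    rw [Ideal.mem_bot]
    by_contra hr0
    have hmem : (algebraMap S (K ⊗[R] S)) (algebraMap R S r) ∈ (l i).asIdeal := hr
    have heq : (algebraMap S (K ⊗[R] S)) (algebraMap R S r) = (algebraMap R K r) ⊗ₜ[R] (1 : S) := by
      show (1 : K) ⊗ₜ[R] (algebraMap R S r) = _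
      rw [Algebra.algebraMap_eq_smul_one, Algebra.algebraMap_eq_smul_one, TensorProduct.smul_tmul]
    have hunit : IsUnit (algebraMap R K r) :=
      (IsFractionRing.to_map_ne_zero_of_mem_nonZeroDivisors
        (mem_nonZeroDivisors_of_ne_zero hr0)).isUnit
    have hunit' : IsUnit ((algebraMap R K r) ⊗ₜ[R] (1 : S)) := by
      have := hunit.map (Algebra.TensorProduct.includeLeft : K →ₐ[R] K ⊗[R] S)
      simpa using this
    rw [heq] at hmem
    exact (l i).isPrime.ne_top (Ideal.eq_top_of_isUnit_mem _ hmem hunit')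

/-- General version: a chain of `n + 1` primes of `S` lying over `p`, when the residue
transcendence degree of `P` over `p` is `n`. -/
theorem exists_chain_over (R S : Type u) [CommRing R] [CommRing S] [Algebra R S]
    [Algebra.FiniteType R S] (p : Ideal R) [p.IsPrime] (P : Ideal S) [P.IsPrime] [P.LiesOver p]
    (n : ℕ) (h : Algebra.trdeg (R ⧸ p) (S ⧸ P) = n) :
    ∃ Q : Fin (n + 1) → PrimeSpectrum S, StrictMono Q ∧
      ∀ i, (Q i).asIdeal.comap (algebraMap R S) = p := by
  haveI : Algebra.FiniteType (R ⧸ p) (S ⧸ P) :=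
    Groth.Agent.Lib.lead.NonDomainDim.finiteType_quotient p P
  obtain ⟨Q', hmono, hQ'⟩ := exists_chain_domain (R ⧸ p) (S ⧸ P) n h
  refine ⟨fun i => PrimeSpectrum.comap (Ideal.Quotient.mk P) (Q' i), ?_, ?_⟩
  · refine Monotone.strictMono_of_injective ?_ ?_
    · intro i j hij
      have hle : Q' i ≤ Q' j := hmono.monotone hij
      show (PrimeSpectrum.comap _ (Q' i)).asIdeal ≤ (PrimeSpectrum.comap _ (Q' j)).asIdeal
      exact Ideal.comap_mono hle
    · intro i j hij
      exact hmono.injective (PrimeSpectrum.comap_injective_of_surjective _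
        Ideal.Quotient.mk_surjective hij)
  · intro i
    ext r
    have h1 : r ∈ ((PrimeSpectrum.comap (Ideal.Quotient.mk P) (Q' i)).asIdeal.comap
        (algebraMap R S)) ↔ Ideal.Quotient.mk p r ∈ (Q' i).asIdeal.comap
          (algebraMap (R ⧸ p) (S ⧸ P)) := Iff.rfl
    rw [h1, hQ' i, Ideal.mem_bot, Ideal.Quotient.eq_zero_iff_mem]

end Groth.Agent.Lib.Helper24.ClosedDim
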