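import Mathlib

/-!
# Closed maps do not lower heights of point closures (helper24)

For a closed continuous map `f : X → Y` into a quasi-sober space, the height of `closure {f x}`
in `IrreducibleCloseds Y` is at most the height of `closure {x}` in `IrreducibleCloseds X`.
-/

set_option autoImplicit false

namespace Groth.Agent.Lib.Helper24.ClosedDim

open TopologicalSpace

variable {X Y : Type*} [TopologicalSpace X] [TopologicalSpace Y]

/-- The closure of a point, as an irreducible closed subset. -/
def ptClosure (x : X) : IrreducibleCloseds X :=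
  ⟨closure {x}, isIrreducible_singleton.closure, isClosed_closure⟩

@[simp] theorem coe_ptClosure (x : X) : (ptClosure x : Set X) = closure {x} := rfl

theorem ptClosure_le_iff {x : X} {Z : IrreducibleCloseds X} : ptClosure x ≤ Z ↔ x ∈ Z := by
  constructor
  · intro h
    exact h (subset_closure (Set.mem_singleton x))
  · intro h
    show closure {x} ⊆ (Z : Set X)
    exact closure_minimal (Set.singleton_subset_iff.mpr h) Z.isClosed

theorem exists_lt_of_succ_le_height {α : Type*} [Preorder α] {a : α} {e : ℕ}
    (h : ((e + 1 : ℕ) : ℕ∞) ≤ Order.height a) : ∃ b < a, (e : ℕ∞) ≤ Order.height b := by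
  by_contra hcon
  push Not at hcon
  have h1 : Order.height a ≤ (e : ℕ∞) := Order.height_le_coe_iff.mpr hcon
  have h2 := h.trans h1
  exact absurd h2 (by exact_mod_cast Nat.not_succ_le_self e)

theorem height_add_le_of_strictMono {α : Type*} [Preorder α] {n : ℕ} (g : Fin (n + 1) → α)
    (hg : StrictMono g) : Order.height (g 0) + n ≤ Order.height (g (Fin.last n)) := by
  have key : ∀ i : Fin (n + 1), Order.height (g 0) + ((i : ℕ) : ℕ∞) ≤ Order.height (g i) := by
    intro i
    induction i using Fin.induction with
    | zero => simp
    | succ i ih =>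
      have h1 : g i.castSucc < g i.succ := hg Fin.castSucc_lt_succ
      have h2 := Order.height_add_one_le h1
      calc Order.height (g 0) + (((i.succ : Fin (n + 1)) : ℕ) : ℕ∞)
          = Order.height (g 0) + (((i.castSucc : Fin (n + 1)) : ℕ) : ℕ∞) + 1 := by
            rw [Fin.val_succ, Fin.val_castSucc, Nat.cast_add, Nat.cast_one, add_assoc]
        _ ≤ Order.height (g i.castSucc) + 1 := by gcongr
        _ ≤ _ := h2
  simpa using key (Fin.last n)

theorem le_height_of_isClosedMap [QuasiSober Y] (f : X → Y) (hf : Continuous f)
    (hc : IsClosedMap f) :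
    ∀ (e : ℕ) (x : X) (Z : IrreducibleCloseds Y), Z ≤ ptClosure (f x) →
      (e : ℕ∞) ≤ Order.height Z → (e : ℕ∞) ≤ Order.height (ptClosure x) := by
  intro e
  induction e with
  | zero => intro x Z _ _; simp
  | succ e ih =>
    intro x Z hZ he
    obtain ⟨Z', hlt, he'⟩ := exists_lt_of_succ_le_height he
    -- generic point of Z'
    have hgen : IsGenericPoint Z'.isIrreducible.genericPoint (Z' : Set Y) :=
      Z'.isIrreducible.isGenericPoint_genericPoint Z'.isClosed
    set y' := Z'.isIrreducible.genericPoint with hy'
    have hy'Z' : y' ∈ (Z' : Set Y) := hgen.mem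
    have hy'mem : y' ∈ closure {f x} := hZ (hlt.le hy'Z')
    have himg : closure {f x} ⊆ f '' closure {x} := by
      have := hc.closure_image_subset {x}
      rwa [Set.image_singleton] at this
    obtain ⟨x', hx', hfx'⟩ := himg hy'mem
    have hZ'eq : Z' ≤ ptClosure (f x') := by
      intro z hz
      show z ∈ closure {f x'}
      rw [hfx', hgen.def]
      exact hz
    have h1 := ih x' Z' hZ'eq he'
    have hlt' : ptClosure x' < ptClosure x := by
      rw [lt_iff_le_not_ge]
      refine ⟨ptClosure_le_iff.mpr hx', fun hge => ?_⟩
      have hx : x ∈ closure {x'} := ptClosure_le_iff.mp hge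
      have hfx : f x ∈ closure {f x'} := by
        have := image_closure_subset_closure_image hf (s := {x'}) ⟨x, hx, rfl⟩
        rwa [Set.image_singleton] at this
      rw [hfx', hgen.def] at hfx
      have h2 : Z ≤ Z' := hZ.trans (ptClosure_le_iff.mpr hfx)
      exact (lt_irrefl _ (hlt.trans_le h2))
    calc ((e + 1 : ℕ) : ℕ∞) = (e : ℕ∞) + 1 := by push_cast; rfl
      _ ≤ Order.height (ptClosure x') + 1 := by gcongr
      _ ≤ _ := Order.height_add_one_le hlt'

theorem height_le_of_isClosedMap [QuasiSober Y] (f : X → Y) (hf : Continuous f)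
    (hc : IsClosedMap f) (x : X) :
    Order.height (ptClosure (f x)) ≤ Order.height (ptClosure x) := by
  rw [← ENat.forall_natCast_le_iff_le]
  intro e he
  exact le_height_of_isClosedMap f hf hc e x _ le_rfl he

end Groth.Agent.Lib.Helper24.ClosedDim
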