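import Mathlib
import Groth.Agent.Lib.Helper24.ClosedDim.Top
import Groth.Agent.Lib.Helper24.ClosedDim.GenFibreChain
import Groth.Agent.Lib.lead.SchemeDimIneqGlobal
import Groth.Agent.Lib.Helper18.GenFin

/-!
# `dim X = dim Y + trdeg` for closed dominant morphisms of integral schemes (helper24)
-/

set_option autoImplicit false
universe u
open scoped Cardinal
open AlgebraicGeometry CategoryTheory Groth.Agent.Lib.Helper7 Groth.Agent.Lib.lead

namespace Groth.Agent.Lib.Helper24.ClosedDim

/-- The upper bound. -/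
theorem dim_le {X Y : Scheme.{u}} [IsIntegral X] [IsIntegral Y]
    [IsLocallyNoetherian Y] (f : X ⟶ Y) [LocallyOfFiniteType f] (n : ℕ)
    (hn : letI := (f.residueFieldMap (genericPoint ↥X)).hom.toAlgebra
      Algebra.trdeg (Y.residueField (f.base (genericPoint ↥X)))
        (X.residueField (genericPoint ↥X)) = n) :
    topologicalKrullDim ↥X ≤ topologicalKrullDim ↥Y + n := by
  refine SchemeDimIneqGlobal.main f n ?_
  intro ξ hξ
  rw [irreducibleComponents_eq_singleton, Set.mem_singleton_iff] at hξ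
  have hgen : IsGenericPoint ξ (Set.univ : Set X) := hξ
  obtain rfl : ξ = genericPoint ↥X := hgen.eq (genericPoint_spec ↥X)
  exact hn.le

/-- The lower bound for closed maps. -/
theorem le_dim {X Y : Scheme.{u}} [IsIntegral X] [IsIntegral Y]
    [IsLocallyNoetherian Y] (f : X ⟶ Y) [IsDominant f] [LocallyOfFiniteType f] (n : ℕ)
    (hn : letI := (f.residueFieldMap (genericPoint ↥X)).hom.toAlgebra
      Algebra.trdeg (Y.residueField (f.base (genericPoint ↥X)))
        (X.residueField (genericPoint ↥X)) = n)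
    (hc : IsClosedMap f.base) :
    topologicalKrullDim ↥Y + n ≤ topologicalKrullDim ↥X := by
  set x : X := genericPoint ↥X with hx
  have hfx : f x = genericPoint ↥Y :=
    Groth.Agent.Lib.Helper18.GenFin.map_genericPoint_of_dense f f.denseRange
  obtain ⟨_, ⟨V, hV : IsAffineOpen V, rfl⟩, hfxV, -⟩ :=
    (Y.isBasis_affineOpens).exists_subset_of_mem_open (Set.mem_univ (f x)) isOpen_univ
  obtain ⟨_, ⟨U, hU : IsAffineOpen U, rfl⟩, hxU, hUV⟩ :=
    (X.isBasis_affineOpens).exists_subset_of_mem_open (show x ∈ (f ⁻¹ᵁ V : Set X) from hfxV)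
      (f ⁻¹ᵁ V).isOpen
  have e : U ≤ f ⁻¹ᵁ V := hUV
  have hfxV' : f x ∈ V := e hxU
  letI : Algebra Γ(Y, V) Γ(X, U) := (f.appLE V U e).hom.toAlgebra
  have halg : algebraMap Γ(Y, V) Γ(X, U) = (f.appLE V U e).hom := rfl
  haveI : Algebra.FiniteType Γ(Y, V) Γ(X, U) := f.finiteType_appLE hV hU e
  set p : Ideal Γ(Y, V) := (hV.primeIdealOf ⟨f x, hfxV'⟩).asIdeal with hp
  set P : Ideal Γ(X, U) := (hU.primeIdealOf ⟨x, hxU⟩).asIdeal with hP
  haveI : P.LiesOver p := ResTrdegBridge.liesOver_primeIdealOf f x hV hU e hxU hfxV' halg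
  haveI : p.IsPrime := (hV.primeIdealOf ⟨f x, hfxV'⟩).isPrime
  haveI : P.IsPrime := (hU.primeIdealOf ⟨x, hxU⟩).isPrime
  have hn' : Algebra.trdeg (Γ(Y, V) ⧸ p) (Γ(X, U) ⧸ P) = n := by
    rw [← ResTrdegBridge.trdeg_residueField_eq f x hV hU e hxU hfxV' halg p P hp hP]
    exact hn
  obtain ⟨Q, hQmono, hQover⟩ := exists_chain_over Γ(Y, V) Γ(X, U) p P n hn'
  choose z hz using fun i => AffPts.primeIdealOf_surjective hU (Q i)
  -- all `z i` map to the generic point of `Y`
  have hfz : ∀ i, f (z i).1 = f x := by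
    intro i
    have h1 := IsAffineOpen.comap_primeIdealOf_appLE (f := f) (x := (z i).1) V hV U hU e (z i).2
    have h2 : hV.primeIdealOf ⟨f (z i).1, e (z i).2⟩ = hV.primeIdealOf ⟨f x, hfxV'⟩ := by
      rw [← h1]
      apply PrimeSpectrum.ext
      show Ideal.comap (f.appLE V U e).hom (hU.primeIdealOf ⟨(z i).1, (z i).2⟩).asIdeal = p
      have h3 : hU.primeIdealOf ⟨(z i).1, (z i).2⟩ = Q i := hz i
      rw [h3, ← halg]
      exact hQover i
    exact congrArg Subtype.val (AffPts.primeIdealOf_injective hV h2)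
  -- the chain of closures
  let g : Fin (n + 1) → TopologicalSpace.IrreducibleCloseds X := fun i => ptClosure (z i.rev).1
  have hg : StrictMono g := by
    intro i j hij
    have hlt : Q j.rev < Q i.rev := hQmono (Fin.rev_lt_rev.mpr hij)
    rw [← hz j.rev, ← hz i.rev] at hlt
    rw [lt_iff_le_not_ge]
    constructor
    · rw [ptClosure_le_iff]
      show (z i.rev).1 ∈ closure {(z j.rev).1}
      rw [← specializes_iff_mem_closure]
      exact (AffPts.primeIdealOf_le_iff hU _ _).mp hlt.le
    · intro hge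
      rw [ptClosure_le_iff] at hge
      have hge' : (z j.rev).1 ∈ closure {(z i.rev).1} := hge
      rw [← specializes_iff_mem_closure] at hge'
      exact hlt.not_ge ((AffPts.primeIdealOf_le_iff hU _ _).mpr hge')
  have h1 := height_add_le_of_strictMono g hg
  have h2 : Order.height (ptClosure (f (z (Fin.last n)).1)) ≤
      Order.height (ptClosure (z (Fin.last n)).1) :=
    height_le_of_isClosedMap f.base f.continuous hc (z (Fin.last n)).1
  have hg0 : g 0 = ptClosure (z (Fin.last n)).1 := by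
    show ptClosure (z (Fin.rev 0)).1 = _
    rw [Fin.rev_zero]
  rw [hfz, hfx] at h2
  rw [hg0] at h1
  -- dim Y is the height of the generic point
  have hY : topologicalKrullDim ↥Y ≤
      ((Order.height (ptClosure (genericPoint ↥Y)) : ℕ∞) : WithBot ℕ∞) := by
    unfold topologicalKrullDim
    rw [Order.krullDim_eq_iSup_height]
    apply iSup_le
    intro a
    have hle : a ≤ ptClosure (genericPoint ↥Y) := by
      intro y _
      show y ∈ closure {genericPoint ↥Y}
      rw [(genericPoint_spec ↥Y).def]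
      trivial
    exact_mod_cast Order.height_mono hle
  have hX : ((Order.height (g (Fin.last n)) : ℕ∞) : WithBot ℕ∞) ≤ topologicalKrullDim ↥X :=
    Order.height_le_krullDim _
  calc topologicalKrullDim ↥Y + n
      ≤ ((Order.height (ptClosure (genericPoint ↥Y)) : ℕ∞) : WithBot ℕ∞) + (n : WithBot ℕ∞) :=
        add_le_add_left hY _
    _ ≤ ((Order.height (ptClosure (z (Fin.last n)).1) : ℕ∞) : WithBot ℕ∞) + (n : WithBot ℕ∞) :=
        add_le_add_left (by exact_mod_cast h2) _
    _ ≤ ((Order.height (g (Fin.last n)) : ℕ∞) : WithBot ℕ∞) := by exact_mod_cast h1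
    _ ≤ _ := hX

theorem main {X Y : Scheme.{u}} [IsIntegral X] [IsIntegral Y]
    [IsLocallyNoetherian Y] (f : X ⟶ Y) [IsDominant f] [LocallyOfFiniteType f] (n : ℕ)
    (hn : letI := (f.residueFieldMap (genericPoint ↥X)).hom.toAlgebra
      Algebra.trdeg (Y.residueField (f.base (genericPoint ↥X)))
        (X.residueField (genericPoint ↥X)) = n) :
    topologicalKrullDim ↥X ≤ topologicalKrullDim ↥Y + n ∧
      (IsClosedMap f.base → topologicalKrullDim ↥X = topologicalKrullDim ↥Y + n) :=
  ⟨dim_le f n hn, fun hc => le_antisymm (dim_le f n hn) (le_dim f n hn hc)⟩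

end Groth.Agent.Lib.Helper24.ClosedDim
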